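import Cfsg.Agent.HeRecog.M8a.BS32Col.Log0

/-! Generated: validity. -/

set_option autoImplicit false
set_option maxRecDepth 100000

namespace Cfsg.Agent.HeRecog.M8a.BS32Col

open Cfsg.Agent.CosetCert

theorem log_ok : ∀ i, i < 15268 → data.checkLog i = true := by
  have h0 : ∀ i, i < 0 → data.checkLog i = true := forall_lt_zero
  have h1 := forall_lt_step (b := 2500) h0 logAt0 rfl
  have h2 := forall_lt_step (b := 5000) h1 logAt2500 rfl
  have h3 := forall_lt_step (b := 7500) h2 logAt5000 rfl
  have h4 := forall_lt_step (b := 10000) h3 logAt7500 rfl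
  have h5 := forall_lt_step (b := 12500) h4 logAt10000 rfl
  have h6 := forall_lt_step (b := 15000) h5 logAt12500 rfl
  have h7 := forall_lt_step (b := 15268) h6 logAt15000 rfl
  exact h7

theorem mem_valid : data.MemValid where
  log := log_ok
  iv_iv := by
    have h : ∀ x : Fin 19, ivL (ivL x) = x ∧ ivL x < 19 := by decide +kernel
    exact fun x hx => h ⟨x, hx⟩
  iv_big := fun x hx => by
    have h : Nat.blt x 19 = false := eq_false_of_ne_true fun e => absurd (Nat.ble_eq.mp e) (Nat.not_lt.2 hx)
    show ivL x = x
    simp [ivL, h]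
  pw := by
    have h : ∀ k : Fin 131, data.PW k = pack (data.W.getD k []) := by decide +kernel
    exact fun k hk => h ⟨k, hk⟩
  letters := by decide +kernel
  K_small := by decide +kernel
  nR_le := by decide +kernel

theorem fits : Fits data Cfsg.Agent.HeRecog.M8a.BS32.RS (Cfsg.Agent.HeRecog.M8a.BS32.SS.map SubSpec.word) where
  K := rfl
  iv := rfl
  invol := by decide +kernel
  take := by decide +kernel
  drop := by decide +kernel

theorem walk_ok : walk data.F data.iv data.K data.Nf 1 0x7746 0 (pack (([7].map Letters.dec14).map (Data.code data.iv encL))) = stop 0 0 := by decide +kernel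

end Cfsg.Agent.HeRecog.M8a.BS32Col
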